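import Cfsg.Agent.Lib.Trans3.Spider.Data.KH.Data

set_option autoImplicit false
set_option maxRecDepth 100000

namespace CfsgLib.Trans3.Spider.KH

open CfsgLib.InvChar.Coset

theorem chk_facts9 : cert.chkBlocks 64 576 = true := by decide +kernel

end CfsgLib.Trans3.Spider.KH
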